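import Groth.Agent.DCohMore.ProjUnit
import Groth.Agent.DCohMore.RpushPerfFP
import Groth.Agent.DCohMore.PushFlf
import Groth.Agent.DCohMore.PerfVanish
import Groth.Agent.TwistShriek.TopDualPair
import Groth.Agent.FlatStage.Smooth
import Groth.Agent.BCLib.SteinFlat
import Groth.Agent.S1105
import Groth.Agent.S6976

/-!
# The direct image of the relative dualizing complex over an affine base
-/

set_option autoImplicit false
set_option linter.style.haveILetI false
set_option linter.unusedSectionVars false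
set_option maxHeartbeats 800000
set_option backward.isDefEq.respectTransparency false

universe u

open CategoryTheory CategoryTheory.Limits AlgebraicGeometry
open Groth.Agent.DCohLib

attribute [local instance] HasDerivedCategory.standard

noncomputable section

namespace Groth.Agent.RightAdjVanLib

/-- Perfect objects in non-negative tor degrees have no maps to positive shifts of the structure sheaf. -/
theorem eq_zero_of_amp (R : Type u) [CommRing R] (P : DCoh.D (Spec (CommRingCat.of R))) (hP : DCoh.IsPerfect P)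
    (b : ℤ) (hamp : DCoh.HasFlatAmplitudeIn 0 b P) (i : ℤ) (hi : 0 < i)
    (φ : P ⟶ (DCoh.inD (Spec (CommRingCat.of R)) (Coh.structureModule _))⟦i⟧) : φ = 0 := by
  haveI : PreservesFiniteLimits (tilde.functor (CommRingCat.of R)) := TildeD.preservesFiniteLimits_tilde
  haveI : (tilde.functor (CommRingCat.of R)).Additive := ⟨fun {M N f g} => tilde.map_add f g⟩
  haveI : PreservesColimitsOfSize.{0, 0} (tilde.functor (CommRingCat.of R)) :=
    (tilde.adjunction (R := CommRingCat.of R)).leftAdjoint_preservesColimits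
  haveI : PreservesFiniteColimits (tilde.functor (CommRingCat.of R)) :=
    PreservesColimitsOfSize.preservesFiniteColimits _
  let T := DCoh.tildeD (CommRingCat.of R)
  haveI : T.Full := (TildeD.main (CommRingCat.of R)).1
  obtain ⟨M, ⟨eM⟩⟩ := ((TildeD.main (CommRingCat.of R)).2.2 P).1 (DCohMore.isQCohD_of_isPerfect hP)
  have hM : DRing.IsPerfect R M := (S1105.result R M).1 (isPerfect_iso eM.symm hP)
  have hMa : DRing.HasTorAmplitudeIn R 0 b M := TildePerf.flatAmplitude_tilde_iff.1 (by
    obtain ⟨E, hE, hfl, ⟨e⟩⟩ := hamp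
    exact ⟨E, hE, hfl, ⟨e ≪≫ eM.symm⟩⟩)
  obtain ⟨N, hN, hNp, ⟨eN⟩⟩ := (S6976.result R M
    (DRingLib.pcPrime_of_perf ((DRingLib.isPerfect_iff M).1 hM)) 0 b).2 ⟨hM, hMa⟩
  haveI : N.IsStrictlyLE b := (CochainComplex.isStrictlyLE_iff _ _).2 fun j hj => hN j (Or.inr hj)
  haveI : ∀ n, CategoryTheory.Projective (N.X n) := fun n =>
    haveI : Module.Projective R (N.X n) := hNp n
    inferInstance
  haveI : N.IsKProjective := CochainComplex.isKProjective_of_projective N b
  let L : DRing.Cx R :=
    (HomologicalComplex.single (ModuleCat.{u} R) (ComplexShape.up ℤ) (-i)).obj (ModuleCat.of R R)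
  let eT : T.obj (DRing.toD L) ≅ (DCoh.inD (Spec (CommRingCat.of R)) (Coh.structureModule _))⟦i⟧ :=
    T.mapIso ((DerivedCategory.singleFunctorIsoCompQ (ModuleCat.{u} R) (-i)).app (ModuleCat.of R R)).symm ≪≫
      ((tilde.functor (CommRingCat.of R)).mapDerivedCategorySingleFunctor (-i)).app _ ≪≫
      (DerivedCategory.singleFunctor (Spec (CommRingCat.of R)).Modules (-i)).mapIso tildeSelf ≪≫
      (((DerivedCategory.singleFunctors (Spec (CommRingCat.of R)).Modules).shiftIso i (-i) 0 (by omega)).app _).symm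
  let e₁ : T.obj (DRing.toD N) ≅ P := T.mapIso eN ≪≫ eM
  obtain ⟨n, hn⟩ := DRingLib.Q_map_surjective N L (T.preimage (e₁.hom ≫ φ ≫ eT.inv))
  have hn0 : n = 0 := by
    refine HomologicalComplex.hom_ext _ _ fun j => ?_
    by_cases hj : j = -i
    · exact (hN j (Or.inl (by omega))).eq_of_src _ _
    · exact (HomologicalComplex.isZero_single_obj_X _ _ _ _ hj).eq_of_tgt _ _
  have hz : e₁.hom ≫ φ ≫ eT.inv = 0 := by
    rw [← T.map_preimage (e₁.hom ≫ φ ≫ eT.inv), ← hn, hn0, Functor.map_zero, Functor.map_zero]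
  rw [← cancel_epi e₁.hom, ← cancel_mono eT.inv, Category.assoc, hz, comp_zero, zero_comp]

variable {X : Scheme.{u}}

/-- The support of the structure sheaf is proper for a proper morphism. -/
theorem isProperOver_support {Y : Scheme.{u}} (f : X ⟶ Y) [IsProper f] :
    ClSub.IsProperOver f (CohB1.support (Coh.structureModule X)) :=
  have h : IsClosed (CohB1.support (Coh.structureModule X)) :=
    PullbackMod.isClosed_support_of_isFT (ExactConstrLib.isFT_of_isFP (FlatStage.isFP_structureModule X))
  ⟨h, inferInstance⟩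

/-- The direct image of the structure sheaf is perfect in non-negative tor degrees. -/
theorem exists_amp_push (R : Type u) [CommRing R] (f : X ⟶ Spec (CommRingCat.of R)) [IsProper f] [Flat f]
    [LocallyOfFinitePresentation f] [DCoh.HasRpush f] :
    DCoh.IsPerfect ((DCoh.Rpush f).obj (DCoh.inD X (Coh.structureModule X))) ∧
      ∃ b : ℤ, DCoh.HasFlatAmplitudeIn 0 b ((DCoh.Rpush f).obj (DCoh.inD X (Coh.structureModule X))) := by
  haveI : CompactSpace X := QuasiCompact.compactSpace_of_compactSpace f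
  let O := Coh.structureModule X
  have hO : FlatMod.IsFlatOver f O := BCLib.isFlatOver_structureModule f
  haveI : DCoh.HasLTensorMod O := DCohLib.hasLTensorMod O
  refine ⟨?_, ?_⟩
  · obtain ⟨e⟩ := DCohMore.PushFlf.nonempty_lTensorMod_inD_unit O
    exact isPerfect_iso ((DCoh.Rpush f).mapIso e)
      (DCohMore.isPerfect_rpush_lTensorMod_fp f _ (isPerfect_inD (BCLib.isFinLocFree_structureModule X)) O
        (FlatStage.isFP_structureModule X) hO (isProperOver_support f))
  · have hq : DCoh.IsQCohD (DCoh.inD X O) := (TwistShriek.oQ X).property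
    obtain ⟨b, hb, h⟩ := DCohMore.exists_torAmplitude_rpush f (DCoh.inD X O) hq 0 0 le_rfl
      fun F hF P hP ⟨eP⟩ => by
        let L := (pullCx f).obj P
        have hL : DCoh.IsKFlat L := isKFlat_pullback f hP
        let e : (DCoh.LTensorCx L).obj (DCoh.inD X O) ≅
            DerivedCategory.Q.obj ((DCoh.tensorCx.obj (DCohMore.sgl₀ O)).obj L) :=
          (DCoh.LTensorCx L).mapIso ((DerivedCategory.singleFunctorIsoCompQ X.Modules 0).app O) ≪≫
            (lTensorQIso L hL).app (DCohMore.sgl₀ O)
        obtain ⟨h0, h1⟩ := DCohMore.isGE_isLE_tensor_pullback f O hO F P eP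
        haveI := h0
        haveI := h1
        exact ⟨DerivedCategory.TStructure.t.isGE_of_iso e.symm 0, DerivedCategory.TStructure.t.isLE_of_iso e.symm 0⟩
    exact ⟨b, hasFlatAmplitudeIn_of_hasTorAmplitudeIn hb h⟩

/-- The positive cohomology sheaves of the direct image of the relative dualizing complex vanish. -/
theorem isZero_HD_affine (R : Type u) [CommRing R] (f : X ⟶ Spec (CommRingCat.of R)) [IsProper f] [Flat f]
    [LocallyOfFinitePresentation f] [DCoh.HasRpush f] (hf : DCoh.RpushPreservesQCoh f)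
    (a : DCoh.DQCoh (Spec (CommRingCat.of R)) ⥤ DCoh.DQCoh X) (adj : DCoh.RpushQ f hf ⊣ a)
    (O : DCoh.DQCoh (Spec (CommRingCat.of R)))
    (hO : Nonempty (O.obj ≅ DCoh.inD (Spec (CommRingCat.of R)) (Coh.structureModule _))) (q : ℤ) (hq : 0 < q) :
    IsZero (DCoh.HD ((DCoh.RpushQ f hf).obj (a.obj O)).obj q) := by
  haveI := hasLpull f
  haveI : PreservesFiniteLimits (tilde.functor (CommRingCat.of R)) := TildeD.preservesFiniteLimits_tilde
  haveI : (tilde.functor (CommRingCat.of R)).Additive := ⟨fun {M N f g} => tilde.map_add f g⟩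
  haveI : PreservesColimitsOfSize.{0, 0} (tilde.functor (CommRingCat.of R)) :=
    (tilde.adjunction (R := CommRingCat.of R)).leftAdjoint_preservesColimits
  haveI : PreservesFiniteColimits (tilde.functor (CommRingCat.of R)) :=
    PreservesColimitsOfSize.preservesFiniteColimits _
  obtain ⟨eO⟩ := hO
  obtain ⟨hP, b, hamp⟩ := exists_amp_push R f
  obtain ⟨_, _⟩ := DQCohBrown.exists_triangulated_rpushQ f hf
  let S := Spec (CommRingCat.of R)
  refine DCohMore.TwistFam.isZero_HD_of_orth _ ((DCoh.RpushQ f hf).obj (a.obj O)).property q fun φ => ?_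
  let o : (DCoh.tildeD (CommRingCat.of R)).obj (Dual.inD R R) ≅ DCoh.inD S (Coh.structureModule _) :=
    ((tilde.functor (CommRingCat.of R)).mapDerivedCategorySingleFunctor 0).app _ ≪≫
      (DerivedCategory.singleFunctor S.Modules 0).mapIso tildeSelf
  let s : ((DCoh.tildeD (CommRingCat.of R)).obj (Dual.inD R R))⟦-q⟧ ≅
      (DCoh.inD S (Coh.structureModule _))⟦-q⟧ := (shiftFunctor _ (-q)).mapIso o
  let sY := ((DerivedCategory.singleFunctors S.Modules).shiftIso (-q) q 0 (by omega)).app (Coh.structureModule _)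
  let sX := ((DerivedCategory.singleFunctors X.Modules).shiftIso (-q) q 0 (by omega)).app (Coh.structureModule X)
  haveI : IsIso ((DCohMore.BC.lamN f q).app (Coh.structureModule S)) :=
    DCohMore.BC.isIso_lamN_app_flat f q _ ((isFlat_iff _).2 (SiteBase.ExtZeroPre.isFlat_unit S.sheaf))
  let c : (DCoh.Lpull f).obj ((DCoh.inD S (Coh.structureModule _))⟦-q⟧) ≅
      (DCoh.inD X (Coh.structureModule X))⟦-q⟧ :=
    (DCoh.Lpull f).mapIso sY ≪≫ asIso ((DCohMore.BC.lamN f q).app (Coh.structureModule S)) ≪≫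
      (DCohMore.BC.TT X q).mapIso (pullStructureIso f) ≪≫ sX.symm
  rw [← cancel_epi s.inv, comp_zero]
  apply ((lpullRpushAdj f).homEquiv _ _).symm.injective
  rw [← cancel_epi c.inv]
  have key : ∀ ψ : (TwistShriek.oQ X)⟦-q⟧ ⟶ a.obj O, ψ = 0 := fun ψ => by
    let χ := ((DCoh.RpushQ f hf).commShiftIso (-q)).inv.app (TwistShriek.oQ X) ≫ (adj.homEquiv _ _).symm ψ
    let κ := ((ObjectProperty.ι (DCoh.IsQCohD (X := Spec (CommRingCat.of R)))).commShiftIso (-q)).app
      ((DCoh.RpushQ f hf).obj (TwistShriek.oQ X))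
    have hz : κ.inv ≫ χ.hom = 0 :=
      DCohMore.eq_zero_of_shift (P := (DCoh.Rpush f).obj (DCoh.inD X (Coh.structureModule X)))
        (Z := O.obj) (-q) (κ.inv ≫ χ.hom) fun θ => by
      have h := eq_zero_of_amp R _ hP b hamp q hq (θ ≫ (shiftFunctor _ (-(-q))).map eO.hom ≫
        eqToHom (by rw [neg_neg]))
      rw [← cancel_mono ((shiftFunctor (DCoh.D (Spec (CommRingCat.of R))) (-(-q))).map eO.hom), zero_comp]
      apply (cancel_mono (eqToHom _)).1
      exact (Category.assoc _ _ _).trans (h.trans zero_comp.symm)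
    have hχ : χ.hom = 0 := (cancel_epi κ.inv).1 (hz.trans comp_zero.symm)
    have hχ' : χ = 0 := ObjectProperty.hom_ext _ hχ
    have h0 : (adj.homEquiv _ _).symm ψ = 0 := (cancel_epi
      (((DCoh.RpushQ f hf).commShiftIso (-q)).inv.app (TwistShriek.oQ X))).1 (hχ'.trans comp_zero.symm)
    apply (adj.homEquiv _ _).symm.injective
    rw [h0, adj.homEquiv_counit, Functor.map_zero, zero_comp]
  have main : ∀ ψ : (DCoh.inD X (Coh.structureModule X))⟦-q⟧ ⟶ (a.obj O).obj, ψ = 0 := fun ψ => by
    let e := ((ObjectProperty.ι (DCoh.IsQCohD (X := X))).commShiftIso (-q)).app (TwistShriek.oQ X)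
    have := congrArg (fun g => g.hom) (key (ObjectProperty.homMk (e.hom ≫ ψ)))
    exact (cancel_epi e.hom).1 (this.trans comp_zero.symm)
  exact (main _).trans (main _).symm

end Groth.Agent.RightAdjVanLib
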