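import Groth.Agent.RightAdjVanLib.Affine
import Groth.Agent.TwistShriek.RGammaFunc
import Groth.Agent.TwistShriek.OpenBase
import Groth.Agent.S3601
import Groth.Agent.S3602

/-!
# Positive cohomology sheaves of the direct image of the relative dualizing complex
-/

set_option autoImplicit false
set_option linter.style.haveILetI false
set_option maxHeartbeats 1600000
set_option backward.isDefEq.respectTransparency false

universe u

open CategoryTheory CategoryTheory.Limits AlgebraicGeometry Pretriangulated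
open Groth.Agent.DCohLib Groth.Agent.DCohMore

attribute [local instance] HasDerivedCategory.standard

noncomputable section

namespace Groth.Agent.RightAdjVanLib

variable {X Y : Scheme.{u}}

/-- The positive cohomology sheaves of the direct image of the relative dualizing complex vanish. -/
theorem isZero_HD [CompactSpace Y] [QuasiSeparatedSpace Y] (f : X ⟶ Y) [IsProper f] [Flat f]
    [LocallyOfFinitePresentation f] [DCoh.HasRpush f] (hf : DCoh.RpushPreservesQCoh f)
    (a : DCoh.DQCoh Y ⥤ DCoh.DQCoh X) (adj : DCoh.RpushQ f hf ⊣ a) (O : DCoh.DQCoh Y)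
    (hO : Nonempty (O.obj ≅ DCoh.inD Y (Coh.structureModule Y))) (i : ℤ) (hi : 0 < i) :
    IsZero (DCoh.HD ((DCoh.RpushQ f hf).obj (a.obj O)).obj i) := by
  haveI : CompactSpace X := QuasiCompact.compactSpace_of_compactSpace f
  haveI : QuasiSeparatedSpace X := quasiSeparatedSpace_of_quasiSeparated f
  refine isZero_of_local fun y => ?_
  obtain ⟨_, ⟨V : Y.Opens, hV, rfl⟩, hy, -⟩ :=
    Y.isBasis_affineOpens.exists_subset_of_mem_open (a := y) (Set.mem_univ y) isOpen_univ
  let R := Γ(Y, V)
  let g : Spec (CommRingCat.of R) ⟶ Y := hV.fromSpec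
  have hgr : Set.range g.base = (V : Set Y) := hV.range_fromSpec
  obtain ⟨y', hy'⟩ : y ∈ Set.range g.base := hgr ▸ hy
  refine ⟨_, g, inferInstance, y', hy', ?_⟩
  refine IsZero.of_iso ?_ (restrictHDIso g _ i).symm
  let f' := pullback.snd f g
  let g' := pullback.fst f g
  haveI : CompactSpace ↑(pullback f g) := QuasiCompact.compactSpace_of_compactSpace f'
  haveI : QuasiSeparatedSpace ↑(pullback f g) := quasiSeparatedSpace_of_quasiSeparated f'
  haveI : QuasiCompact g := quasiCompact_of_compactSpace g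
  haveI : QuasiSeparated g := QuasiSeparated.of_quasiSeparatedSpace g
  haveI : DCoh.HasRpush f' := BC.hasRpush _
  haveI : DCoh.HasRpush g := BC.hasRpush _
  haveI : DCoh.HasRpush g' := BC.hasRpush _
  haveI := DCohLib.hasLpull g
  have hf' : DCoh.RpushPreservesQCoh f' := fun K hK => isQCohD_rpush f' K hK
  have hg : DCoh.RpushPreservesQCoh g := fun K hK => isQCohD_rpush g K hK
  have hg' : DCoh.RpushPreservesQCoh g' := fun K hK => isQCohD_rpush g' K hK
  haveI := DQCohBrown.isLeftAdjoint_rpushQ f' hf'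
  let adj' : DCoh.RpushQ f' hf' ⊣ (DCoh.RpushQ f' hf').rightAdjoint :=
    Adjunction.ofIsLeftAdjoint (DCoh.RpushQ f' hf')
  obtain ⟨e, hξ⟩ := S3602.result X Y (pullback f g) (Spec (CommRingCat.of R)) f g f' g'
    (IsPullback.of_hasPullback f g) (Or.inl inferInstance) hf hf' hg hg' a _ adj adj'
  let O' := (Dual3.LpullQ g (TwistShriek.lpullQCoh g)).obj O
  obtain ⟨eO⟩ := hO
  obtain ⟨eL⟩ := TwistFam.nonempty_lpull_structure g
  have hO' : Nonempty (O'.obj ≅ DCoh.inD (Spec (CommRingCat.of R)) (Coh.structureModule _)) :=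
    ⟨(DCoh.Lpull g).mapIso eO ≪≫ eL⟩
  have hz := isZero_HD_affine R f' hf' _ adj' O' hO' i hi
  let G := (DCoh.RpushQ g hg).obj O'
  haveI := hξ O'
  let e₁ : (DCoh.RpushQ f hf).obj (a.obj G) ≅
      (DCoh.RpushQ g hg).obj ((DCoh.RpushQ f' hf').obj ((DCoh.RpushQ f' hf').rightAdjoint.obj O')) :=
    (DCoh.RpushQ f hf).mapIso (asIso (Dual3.xi adj adj' e O')).symm ≪≫ e.app _
  obtain ⟨rG⟩ := TwistShriek.nonempty_rpush_restrictD g
  let eG : (DCoh.restrictD g).obj ((DCoh.RpushQ f hf).obj (a.obj G)).obj ≅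
      ((DCoh.RpushQ f' hf').obj ((DCoh.RpushQ f' hf').rightAdjoint.obj O')).obj :=
    (DCoh.restrictD g).mapIso ((ObjectProperty.ι _).mapIso e₁) ≪≫ rG.app _
  obtain ⟨_, _⟩ := DQCohBrown.exists_triangulated_rpushQ f hf
  letI := adj.rightAdjointCommShift ℤ
  haveI := adj.commShift_of_leftAdjoint ℤ
  haveI := adj.isTriangulated_rightAdjoint
  let ιY := ObjectProperty.ι (DCoh.IsQCohD (X := Y))
  let u : O ⟶ G := (TwistShriek.adjQ g hg).unit.app O
  obtain ⟨C, p, δ, hT⟩ := distinguished_cocone_triangle u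
  obtain ⟨l⟩ := TwistShriek.nonempty_restrictD_iso_lpull g
  have hC : IsZero ((DCoh.restrictD g).obj C.obj) := by
    haveI := TwistShriek.isIso_lpull_map_unit g hg O
    haveI : IsIso ((DCoh.Lpull g).map u.hom) :=
      inferInstanceAs (IsIso ((ObjectProperty.ι _).map ((Dual3.LpullQ g (TwistShriek.lpullQCoh g)).map u)))
    refine (Triangle.isZero₃_iff_isIso₁ _ ((DCoh.restrictD g).map_distinguished _
      (ιY.map_distinguished _ hT))).2 ?_
    show IsIso ((DCoh.restrictD g).map u.hom)
    exact (NatIso.isIso_map_iff l u.hom).2 inferInstance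
  have hC' := TwistShriek.isZero_restrictD_opensRange g hC
  have haC : IsZero ((DCoh.restrictD (f ⁻¹ᵁ g.opensRange).ι).obj (a.obj C).obj) :=
    isZero_of_isZero_HD fun j =>
      (S3601.result X Y f hf a adj g.opensRange C (fun k =>
        ((DerivedCategory.homologyFunctor _ k).map_isZero hC').of_iso (restrictHDIso g.opensRange.ι C.obj k).symm)
        j).of_iso (restrictHDIso (f ⁻¹ᵁ g.opensRange).ι (a.obj C).obj j)
  have h1 := TwistShriek.isZero_restrictD_rpush f g.opensRange _ haC
  have h2 : IsZero ((DCoh.restrictD g).obj ((DCoh.RpushQ f hf).obj (a.obj C)).obj) :=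
    ((DCoh.restrictD g.isoOpensRange.hom).map_isZero h1).of_iso
      ((restrictDCongr g.isoOpensRange_hom_ι.symm).app _ ≪≫ (restrictDComp _ g.opensRange.ι).app _)
  haveI : IsIso ((DCoh.restrictD g).map ((DCoh.RpushQ f hf).map (a.map u)).hom) :=
    (Triangle.isZero₃_iff_isIso₁ _ ((DCoh.restrictD g).map_distinguished _
      (ιY.map_distinguished _ ((DCoh.RpushQ f hf).map_distinguished _ (a.map_distinguished _ hT))))).1 h2
  exact hz.of_iso ((DerivedCategory.homologyFunctor _ i).mapIso
    (asIso ((DCoh.restrictD g).map ((DCoh.RpushQ f hf).map (a.map u)).hom) ≪≫ eG))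

end Groth.Agent.RightAdjVanLib
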